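import Groth.Agent.HenLineLib.Norm
import Mathlib

/-! Sections over a `p`-th root extension of an algebra unramified over the base are constant. -/

set_option autoImplicit false
set_option linter.style.haveILetI false
set_option linter.unusedSectionVars false
universe u

noncomputable section

open Polynomial

namespace PthRoot

variable {K : Type u} [CommRing K] (p : ℕ) (f : K)

abbrev g : K[X] := X ^ p - C f

theorem g_monic [Fact p.Prime] : (g p f).Monic := monic_X_pow_sub_C f (Fact.out : p.Prime).ne_zero

theorem natDegree_g [Nontrivial K] : (g p f).natDegree = p := natDegree_X_pow_sub_C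

/-- The constant coefficient in the standard basis. -/
def coeff0 [Fact p.Prime] : AdjoinRoot (g p f) →ₗ[K] K :=
  (lcoeff K 0).comp (AdjoinRoot.modByMonicHom (g_monic p f))

theorem coeff0_algebraMap [Fact p.Prime] [Nontrivial K] (c : K) :
    coeff0 p f (algebraMap K (AdjoinRoot (g p f)) c) = c := by
  show ((AdjoinRoot.modByMonicHom (g_monic p f)) (AdjoinRoot.mk _ (C c))).coeff 0 = c
  rw [AdjoinRoot.modByMonicHom_mk, (modByMonic_eq_self_iff (g_monic p f)).2, coeff_C_zero]
  calc (C c).degree ≤ 0 := degree_C_le
    _ < (g p f).degree := by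
      rw [degree_X_pow_sub_C (Fact.out : p.Prime).pos]; exact_mod_cast (Fact.out : p.Prime).pos

/-- An element with vanishing derivative modulo `p` is constant modulo `p`. -/
theorem exists_of_derivative [IsDomain K] [Fact p.Prime] (P : K[X]) (hP : P.natDegree < p)
    (h : ∀ i, (p : K) ∣ (derivative P).coeff i) : ∃ R : K[X], P = C (P.coeff 0) + C (p : K) * R := by
  have hdvd : ∀ i, (p : K) ∣ (P - C (P.coeff 0)).coeff i := by
    intro i
    rcases Nat.eq_zero_or_pos i with rfl | hi
    · simp
    rw [coeff_sub, coeff_C, if_neg hi.ne', sub_zero]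
    rcases lt_or_ge i p with hip | hip
    · obtain ⟨j, rfl⟩ := Nat.exists_eq_succ_of_ne_zero hi.ne'
      obtain ⟨c, hc⟩ := h j
      rw [coeff_derivative] at hc
      have hcop : Nat.Coprime (j + 1) p :=
        ((Fact.out : p.Prime).coprime_iff_not_dvd.2 (Nat.not_dvd_of_pos_of_lt (Nat.succ_pos _) hip)).symm
      obtain ⟨u, v, huv⟩ := (Nat.isCoprime_iff_coprime.2 hcop)
      refine ⟨(u : K) * c + (v : K) * P.coeff (j + 1), ?_⟩
      have h1 : ((u : K) * (j + 1) + (v : K) * p) = 1 := by
        have := congrArg (Int.cast : ℤ → K) huv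
        push_cast at this
        exact this
      linear_combination (u : K) * hc - P.coeff (j + 1) * h1
    · rw [coeff_eq_zero_of_natDegree_lt (by omega)]
      exact dvd_zero _
  obtain ⟨R, hR⟩ := (C_dvd_iff_dvd_coeff _ _).2 hdvd
  exact ⟨R, by rw [← hR, add_sub_cancel]⟩

/-- Sections over a `p`-th root extension of an unramified algebra are constant. -/
theorem section_constant {A : Type u} [CommRing A] [IsDomain K] [IsNoetherianRing K] [Algebra A K]
    [Fact p.Prime] (hp : ¬ IsUnit (p : K)) (hp0 : (p : K) ≠ 0)
    {B : Type u} [CommRing B] [Algebra A B] [Algebra.FormallyUnramified A B]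
    (χ : B →ₐ[A] AdjoinRoot (g p f)) (b : B) :
    χ b = algebraMap K (AdjoinRoot (g p f)) (coeff0 p f (χ b)) := by
  classical
  let S := AdjoinRoot (g p f)
  let hg := g_monic p f
  let M := AdjoinRoot.modByMonicHom hg
  let I : Ideal S := Ideal.span {(p : S)}
  let Q := S ⧸ I
  let D : S →ₗ[K] Q :=
    ((Ideal.Quotient.mkₐ K I).toLinearMap.comp (AdjoinRoot.mkₐ (g p f)).toLinearMap).comp (derivative.comp M)
  have hDmk : ∀ P, D (AdjoinRoot.mk _ P) = Ideal.Quotient.mk I (AdjoinRoot.mk _ (derivative P)) := by
    intro P
    show Ideal.Quotient.mk I (AdjoinRoot.mk _ (derivative (M (AdjoinRoot.mk _ P)))) = _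
    conv_rhs => rw [← modByMonic_add_div P (g p f)]
    rw [AdjoinRoot.modByMonicHom_mk, derivative_add, derivative_mul, map_add, map_add, map_add, map_mul (AdjoinRoot.mk _),
      map_mul (AdjoinRoot.mk _), AdjoinRoot.mk_self, zero_mul, add_zero]
    have : Ideal.Quotient.mk I (AdjoinRoot.mk (g p f) (derivative (g p f))) = 0 := by
      rw [Ideal.Quotient.eq_zero_iff_mem, Ideal.mem_span_singleton, derivative_sub, derivative_C, sub_zero, derivative_X_pow,
        map_mul, AdjoinRoot.mk_C, map_natCast]
      exact dvd_mul_right _ _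
    rw [map_mul (Ideal.Quotient.mk I), this, zero_mul, add_zero]
  have hDmul : ∀ z w : S, D (z * w) = Ideal.Quotient.mk I z * D w + Ideal.Quotient.mk I w * D z := by
    intro z w
    obtain ⟨P, rfl⟩ := AdjoinRoot.mk_surjective z
    obtain ⟨R, rfl⟩ := AdjoinRoot.mk_surjective w
    rw [← map_mul, hDmk, hDmk, hDmk, derivative_mul, map_add, map_add, map_mul, map_mul, map_mul, map_mul]
    ring
  have hDC : ∀ c, D (algebraMap K S c) = 0 := fun c => by
    rw [show algebraMap K S c = AdjoinRoot.mk _ (C c) from rfl, hDmk, derivative_C, map_zero, map_zero]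
  have hcoeff : ∀ (z : S) (i : ℕ), (p : S) ∣ z → (p : K) ∣ (M z).coeff i := by
    rintro _ i ⟨w, rfl⟩
    rw [show (p : S) * w = (p : K) • w by rw [Algebra.smul_def, map_natCast], map_smul, coeff_smul, smul_eq_mul]
    exact dvd_mul_right _ _
  have hMdeg : ∀ z : S, (M z).natDegree < p := fun z => by
    obtain ⟨P, rfl⟩ := AdjoinRoot.mk_surjective z
    rw [AdjoinRoot.modByMonicHom_mk]
    exact lt_of_lt_of_le (natDegree_modByMonic_lt P hg (fun h => by
      have := natDegree_g p f
      rw [h, natDegree_one] at this
      exact (Fact.out : p.Prime).ne_zero this.symm)) (natDegree_g p f).le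
  have hD0 : ∀ z : S, D z = 0 → ∃ (c : K) (y : S), z = algebraMap K S c + (p : S) * y := by
    intro z hz
    obtain ⟨P, rfl⟩ := AdjoinRoot.mk_surjective z
    let P0 := M (AdjoinRoot.mk _ P)
    have hdiv : ∀ i, (p : K) ∣ (derivative P0).coeff i := by
      intro i
      have h1 : (p : S) ∣ AdjoinRoot.mk _ (derivative P0) :=
        Ideal.mem_span_singleton.1 (Ideal.Quotient.eq_zero_iff_mem.1 hz)
      have h2 := hcoeff _ i h1
      rw [show M (AdjoinRoot.mk _ (derivative P0)) = derivative P0 %ₘ g p f from AdjoinRoot.modByMonicHom_mk hg _,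
        (modByMonic_eq_self_iff hg).2] at h2
      · exact h2
      · calc (derivative P0).degree ≤ P0.degree := degree_derivative_le
          _ < (g p f).degree := by
            rw [degree_X_pow_sub_C (Fact.out : p.Prime).pos]
            exact lt_of_le_of_lt degree_le_natDegree (by exact_mod_cast hMdeg _)
    obtain ⟨R, hR⟩ := exists_of_derivative p P0 (hMdeg _) hdiv
    refine ⟨P0.coeff 0, AdjoinRoot.mk _ R, ?_⟩
    conv_lhs => rw [← (AdjoinRoot.mk_leftInverse hg) (AdjoinRoot.mk _ P)]
    show AdjoinRoot.mk _ P0 = _
    conv_lhs => rw [hR, map_add, map_mul, AdjoinRoot.mk_C, map_natCast]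
    rfl
  letI : Algebra B Q := ((Ideal.Quotient.mk I).comp χ.toRingHom).toAlgebra
  haveI : IsScalarTower A B Q := IsScalarTower.of_algebraMap_eq fun a => by
    show algebraMap A Q a = Ideal.Quotient.mk I (χ (algebraMap A B a))
    rw [AlgHom.commutes]
    rfl
  have hk : ∀ k : ℕ, ∀ b, ∃ (c : K) (y : S), χ b = algebraMap K S c + (p : S) ^ k * y := by
    intro k
    induction k with
    | zero => exact fun b => ⟨0, χ b, by simp⟩
    | succ k ih =>
      choose c y hy using ih
      have huniq : ∀ b (c' : K) (y' : S), χ b = algebraMap K S c' + (p : S) ^ k * y' → D y' = D (y b) := by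
        intro b c' y' h
        have h1 : (p : K) ^ k • (y' - y b) = algebraMap K S (c b - c') := by
          rw [Algebra.smul_def, map_pow, map_natCast, map_sub]
          linear_combination (hy b) - h
        have h2 := congrArg D h1
        rw [map_smul, hDC, map_sub] at h2
        have h3 : (p : K) ^ k • M (y' - y b) = M (algebraMap K S (c b - c')) := by rw [← map_smul, h1]
        have h4 : ∀ i, 1 ≤ i → (M (y' - y b)).coeff i = 0 := fun i hi => by
          have h5 := congrArg (fun P : K[X] => P.coeff i) h3
          rw [show algebraMap K S (c b - c') = AdjoinRoot.mk _ (C (c b - c')) from rfl, AdjoinRoot.modByMonicHom_mk,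
            (modByMonic_eq_self_iff hg).2 (lt_of_le_of_lt degree_C_le (by
              rw [degree_X_pow_sub_C (Fact.out : p.Prime).pos]; exact_mod_cast (Fact.out : p.Prime).pos))] at h5
          simp only [coeff_smul, smul_eq_mul, coeff_C, if_neg (show i ≠ 0 by omega)] at h5
          exact (mul_eq_zero.1 h5).resolve_left (pow_ne_zero _ hp0)
        have h6 : M (y' - y b) = C ((M (y' - y b)).coeff 0) := by
          ext i
          rcases Nat.eq_zero_or_pos i with rfl | hi
          · simp
          · rw [h4 i hi, coeff_C, if_neg hi.ne']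
        have h7 : y' - y b = algebraMap K S ((M (y' - y b)).coeff 0) := by
          conv_lhs => rw [← (AdjoinRoot.mk_leftInverse hg) (y' - y b)]
          show AdjoinRoot.mk _ (M (y' - y b)) = AdjoinRoot.mk _ (C _)
          rw [← h6]
        rw [← sub_eq_zero, ← map_sub, h7, hDC]
      let δ : Derivation A B Q := Derivation.mk'
        { toFun := fun b => D (y b)
          map_add' := fun b b' => by
            rw [← map_add]
            exact (huniq _ (c b + c b') _ (by rw [map_add χ, hy b, hy b', map_add]; ring)).symm
          map_smul' := fun a b => by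
            rw [RingHom.id_apply, ← IsScalarTower.algebraMap_smul K a (D (y b)), ← map_smul]
            refine (huniq _ (algebraMap A K a * c b) _ ?_).symm
            rw [map_smul χ, ← IsScalarTower.algebraMap_smul K a (χ b), hy b, Algebra.smul_def, Algebra.smul_def, map_mul]
            ring }
        fun b b' => by
          show D (y (b * b')) = b • D (y b') + b' • D (y b)
          rw [← huniq (b * b') (c b * c b')
            (algebraMap K S (c b) * y b' + algebraMap K S (c b') * y b + (p : S) ^ k * (y b * y b'))
            (by rw [map_mul χ, hy b, hy b', map_mul]; ring)]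
          rw [Algebra.smul_def, Algebra.smul_def]
          show _ = Ideal.Quotient.mk I (χ b) * D (y b') + Ideal.Quotient.mk I (χ b') * D (y b)
          have hpk : ∀ z, D ((p : S) ^ k * z) = Ideal.Quotient.mk I ((p : S) ^ k) * D z := fun z => by
            rw [hDmul, show (p : S) ^ k = algebraMap K S ((p : K) ^ k) by rw [map_pow, map_natCast], hDC, mul_zero, add_zero]
          rw [map_add, map_add, hDmul, hDmul, hpk, hDmul, hDC, hDC, hy b, hy b', map_add, map_add, map_mul, map_mul]
          ring
      have hδ : δ = 0 := by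
        haveI : Subsingleton (Derivation A B Q) := (KaehlerDifferential.linearMapEquivDerivation A B).symm.injective.subsingleton
        exact Subsingleton.elim _ _
      intro b
      obtain ⟨c', y', hy'⟩ := hD0 (y b) (DFunLike.congr_fun hδ b)
      refine ⟨c b + (p : K) ^ k * c', y', ?_⟩
      rw [hy b, hy', map_add, map_mul, map_pow, map_natCast]
      ring
  -- Krull intersection
  have hcoef : ∀ i, 1 ≤ i → (M (χ b)).coeff i = 0 := by
    intro i hi
    have : (M (χ b)).coeff i ∈ (⨅ k, (Ideal.span {(p : K)}) ^ k) := by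
      refine Ideal.mem_iInf.2 fun k => ?_
      obtain ⟨c, y, hy⟩ := hk k b
      rw [hy, map_add, show (p : S) ^ k * y = (p : K) ^ k • y by rw [Algebra.smul_def, map_pow, map_natCast], map_smul,
        coeff_add, coeff_smul, show algebraMap K S c = AdjoinRoot.mk _ (C c) from rfl, AdjoinRoot.modByMonicHom_mk,
        (modByMonic_eq_self_iff hg).2 (lt_of_le_of_lt degree_C_le (by
          rw [degree_X_pow_sub_C (Fact.out : p.Prime).pos]; exact_mod_cast (Fact.out : p.Prime).pos)),
        coeff_C, if_neg (show i ≠ 0 by omega), zero_add, Ideal.span_singleton_pow, Ideal.mem_span_singleton]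
      exact dvd_mul_right _ _
    rw [Ideal.iInf_pow_eq_bot_of_isDomain _ (by rwa [Ne, Ideal.span_singleton_eq_top])] at this
    exact this
  have h6 : M (χ b) = C ((M (χ b)).coeff 0) := by
    ext i
    rcases Nat.eq_zero_or_pos i with rfl | hi
    · simp
    · rw [hcoef i hi, coeff_C, if_neg hi.ne']
  conv_lhs => rw [← (AdjoinRoot.mk_leftInverse hg) (χ b)]
  show AdjoinRoot.mk _ (M (χ b)) = AdjoinRoot.mk _ (C (M (χ b) |>.coeff 0))
  rw [← h6]

end PthRoot
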